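import Groth.Agent.AssocBunLib.Main
import Groth.Agent.MonoQuotLib.Cov
import Groth.Agent.NoriFGSLib.Action
import Groth.Agent.AntiAffLib.Image
import Groth.Agent.GrpSchLib.Cartier

/-! An extension of special groups is special. -/

set_option autoImplicit false
set_option backward.isDefEq.respectTransparency false
set_option linter.style.haveILetI false
set_option maxHeartbeats 800000

noncomputable section

universe u

open CategoryTheory CategoryTheory.Limits MonoidalCategory CartesianMonoidalCategory AlgebraicGeometry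
open scoped MonObj

attribute [-instance] CategoryTheory.Hom.commGroup

namespace Groth.Agent.SpecialExt

variable {k : Type u} [Field k] {G N Q X Y : Over (Spec (CommRingCat.of k))} [GrpObj G] [GrpObj N] [GrpObj Q]
  (a : AlgGrp.Action G X) (φ : X ⟶ Y)

/-- The group acting on the quotient group by translation. -/
def transl (q : G ⟶ Q) [IsMonHom q] : AlgGrp.Action G Q :=
  Groth.Agent.Nori.mkAction ((fst G Q ≫ q) * snd G Q)
    (fun Z y => by rw [MonObj.comp_mul, lift_fst_assoc, lift_snd, MonObj.one_comp, one_mul])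
    (fun Z g g' y => by
      simp only [MonObj.comp_mul, lift_fst_assoc, lift_snd, MonObj.mul_comp, mul_assoc])

theorem lift_transl (q : G ⟶ Q) [IsMonHom q] {T : Over (Spec (CommRingCat.of k))} (g : T ⟶ G) (y : T ⟶ Q) :
    lift g y ≫ (transl q).act = (g ≫ q) * y := by
  show lift g y ≫ ((fst G Q ≫ q) * snd G Q) = _
  rw [MonObj.comp_mul, lift_fst_assoc, lift_snd]

/-- The diagonal action on `X ⊗ Q`, on points. -/
theorem lift_prod (q : G ⟶ Q) [IsMonHom q] {T : Over (Spec (CommRingCat.of k))} (g : T ⟶ G) (x : T ⟶ X) (y : T ⟶ Q) :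
    lift g (lift x y) ≫ (a.prod (transl q)).act = lift (lift g x ≫ a.act) ((g ≫ q) * y) := by
  rw [AlgGrp.Action.prod_act, comp_lift, lift_whiskerLeft_assoc, lift_whiskerLeft_assoc, lift_fst, lift_snd,
    lift_transl]

theorem eq_lift {T A B : Over (Spec (CommRingCat.of k))} (v : T ⟶ A ⊗ B) :
    v = lift (v ≫ fst A B) (v ≫ snd A B) :=
  CartesianMonoidalCategory.hom_ext _ _ (lift_fst _ _).symm (lift_snd _ _).symm

theorem isLocallyTrivial_zariski_comp {Z Z' W : Scheme.{u}} (f : Z ⟶ W) (g : Z' ⟶ Z)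
    (hf : NonAbH1.IsLocallyTrivialFor Scheme.zariskiPrecoverage (Over.mk f))
    (hg : NonAbH1.IsLocallyTrivialFor Scheme.zariskiPrecoverage (Over.mk g)) :
    NonAbH1.IsLocallyTrivialFor Scheme.zariskiPrecoverage (Over.mk (g ≫ f)) := by
  obtain ⟨R, hR, hRs⟩ := hf
  obtain ⟨R', hR', hRs'⟩ := hg
  obtain ⟨E, rfl⟩ := Precoverage.mem_iff_exists_zeroHypercover.mp hR
  obtain ⟨E', rfl⟩ := Precoverage.mem_iff_exists_zeroHypercover.mp hR'
  choose s hs using fun i => hRs (E.f i) (Presieve.ofArrows.mk i)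
  choose t ht using fun j => hRs' (E'.f j) (Presieve.ofArrows.mk j)
  refine ⟨_, Precoverage.comp_mem_coverings E.f hR (fun i j => pullback.fst (s i) (E'.f j))
    (fun i => Precoverage.mem_coverings_of_isPullback E'.f hR' (s i) (fun j => pullback.fst (s i) (E'.f j))
      (fun j => pullback.snd (s i) (E'.f j)) fun j => IsPullback.of_hasPullback _ _), ?_⟩
  rintro S' h ⟨i, j⟩
  refine ⟨pullback.snd (s i) (E'.f j) ≫ t j, ?_⟩
  show (pullback.snd (s i) (E'.f j) ≫ t j) ≫ g ≫ f = pullback.fst (s i) (E'.f j) ≫ E.f i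
  rw [Category.assoc, reassoc_of% (show t j ≫ g = E'.f j from ht j), ← pullback.condition_assoc,
    show s i ≫ f = E.f i from hs i]

variable [CharZero k] [IsAlgClosed k] [IsAffine G.left] [LocallyOfFiniteType G.hom]

theorem special_extension
    (iN : N ⟶ G) [IsMonHom iN] [IsClosedImmersion iN.left]
    (q : G ⟶ Q) [IsMonHom q] [Surjective q.left] [IsAffine Q.left] [LocallyOfFiniteType Q.hom]
    (hker : AlgGrp.IsKernel iN q)
    (hN : ∀ (X Y : Over (Spec (CommRingCat.of k))) (b : AlgGrp.Action N X) (ψ : X ⟶ Y),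
      IsPullback b.act (snd N X) ψ ψ →
      NonAbH1.IsLocallyTrivialFor Scheme.fpqcPrecoverage (Over.mk ψ.left : Over Y.left) →
      NonAbH1.IsLocallyTrivialFor Scheme.zariskiPrecoverage (Over.mk ψ.left : Over Y.left))
    (hQ : ∀ (X Y : Over (Spec (CommRingCat.of k))) (b : AlgGrp.Action Q X) (ψ : X ⟶ Y),
      IsPullback b.act (snd Q X) ψ ψ →
      NonAbH1.IsLocallyTrivialFor Scheme.fpqcPrecoverage (Over.mk ψ.left : Over Y.left) →
      NonAbH1.IsLocallyTrivialFor Scheme.zariskiPrecoverage (Over.mk ψ.left : Over Y.left))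
    (hcart : IsPullback a.act (snd G X) φ φ)
    (hloc : NonAbH1.IsLocallyTrivialFor Scheme.fpqcPrecoverage (Over.mk φ.left : Over Y.left)) :
    NonAbH1.IsLocallyTrivialFor Scheme.zariskiPrecoverage (Over.mk φ.left : Over Y.left) := by
  classical
  haveI : IsAffineHom G.hom := inferInstance
  haveI : IsAffineHom Q.hom := inferInstance
  haveI : Flat G.hom := Groth.Agent.GrpField.flat_field _
  haveI : Surjective G.hom := by
    refine ⟨fun p => ⟨(η[G]).left p, ?_⟩⟩
    haveI : Subsingleton (Spec (CommRingCat.of k)) := inferInstanceAs (Subsingleton (PrimeSpectrum k))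
    exact Subsingleton.elim _ _
  haveI : IsAffineHom φ.left := FibBCLib.property_of_cart @IsAffineHom a φ hcart hloc inferInstance
  haveI : Flat φ.left := FibBCLib.property_of_cart @Flat a φ hcart hloc inferInstance
  haveI : Surjective φ.left := FibBCLib.property_of_cart @Surjective a φ hcart hloc inferInstance
  obtain ⟨X', qq, r, sq, qsq⟩ := AssocBun.exists_bundle hcart (transl q)
  -- the quotient map is a covering
  haveI : IsAffineHom qq.left := MorphismProperty.of_isPullback (P := @IsAffineHom) sq ‹_›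
  haveI : Flat qq.left := MorphismProperty.of_isPullback (P := @Flat) sq ‹_›
  haveI : Surjective qq.left := MorphismProperty.of_isPullback (P := @Surjective) sq ‹_›
  have hcov : MonoQuot.IsCov qq.left := ⟨_, qq.left, 𝟙 _, Category.id_comp _, inferInstance⟩
  have hr : qq ≫ r = fst X Q ≫ φ := Over.OverMorphism.ext sq.w.symm
  have hinv : ∀ {T : Over (Spec (CommRingCat.of k))} (g : T ⟶ G) (x : T ⟶ X) (y : T ⟶ Q),
      lift (lift g x ≫ a.act) ((g ≫ q) * y) ≫ qq = lift x y ≫ qq := fun g x y => by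
    rw [← lift_prod a q, Category.assoc, qsq.w, lift_snd_assoc]
  have horb : ∀ {T : Over (Spec (CommRingCat.of k))} (x x' : T ⟶ X) (y y' : T ⟶ Q),
      lift x y ≫ qq = lift x' y' ≫ qq → ∃ g : T ⟶ G, lift g x' ≫ a.act = x ∧ (g ≫ q) * y' = y := by
    intro T x x' y y' h
    let m := qsq.lift (lift x y) (lift x' y') h
    have e : lift (m ≫ fst _ _) (lift x' y') ≫ (a.prod (transl q)).act = lift x y := by
      refine Eq.trans ?_ (qsq.lift_fst (lift x y) (lift x' y') h)
      congr 1
      exact CartesianMonoidalCategory.hom_ext _ _ (lift_fst _ _)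
        ((lift_snd _ _).trans (qsq.lift_snd (lift x y) (lift x' y') h).symm)
    rw [lift_prod] at e
    exact ⟨m ≫ fst _ _, by simpa using congrArg (· ≫ fst X Q) e, by simpa using congrArg (· ≫ snd X Q) e⟩
  -- the action of `Q`
  obtain ⟨act', hact'⟩ := (hcov.whiskerLeft Q).exists_desc
    (lift (snd Q (X ⊗ Q) ≫ fst X Q) ((snd Q (X ⊗ Q) ≫ snd X Q) * (fst Q (X ⊗ Q))⁻¹) ≫ qq)
    fun T v w e => by
      have e1 : v ≫ fst _ _ = w ≫ fst _ _ := by
        simpa using congrArg (· ≫ fst Q X') e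
      have e2 : (v ≫ snd Q (X ⊗ Q)) ≫ qq = (w ≫ snd Q (X ⊗ Q)) ≫ qq := by
        simpa using congrArg (· ≫ snd Q X') e
      rw [eq_lift (v ≫ snd Q (X ⊗ Q)), eq_lift (w ≫ snd Q (X ⊗ Q))] at e2
      obtain ⟨g, hg1, hg2⟩ := horb _ _ _ _ e2
      simp only [Category.assoc] at hg1 hg2
      rw [← Category.assoc v, ← Category.assoc w, comp_lift, comp_lift, MonObj.comp_mul, MonObj.comp_mul,
        GrpObj.comp_inv, GrpObj.comp_inv, e1, ← hg1, ← hg2, mul_assoc, hinv]
  have hform : ∀ {T : Over (Spec (CommRingCat.of k))} (h y : T ⟶ Q) (x : T ⟶ X),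
      lift h (lift x y ≫ qq) ≫ act' = lift x (y * h⁻¹) ≫ qq := by
    intro T h y x
    rw [← lift_whiskerLeft_assoc, hact', ← Category.assoc, comp_lift, MonObj.comp_mul, GrpObj.comp_inv,
      lift_snd_assoc, lift_snd_assoc, lift_fst, lift_fst, lift_snd]
  have hlift : ∀ {T : Over (Spec (CommRingCat.of k))} (p : T ⟶ X'), ∃ (T' : Over (Spec (CommRingCat.of k)))
      (c : T' ⟶ T) (x : T' ⟶ X) (y : T' ⟶ Q), MonoQuot.IsCov c.left ∧ lift x y ≫ qq = c ≫ p := fun p => by
    obtain ⟨T', c, v, hc, hv⟩ := hcov.exists_lift p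
    exact ⟨T', c, v ≫ fst _ _, v ≫ snd _ _, hc, by rw [← eq_lift v]; exact hv⟩
  let bX : AlgGrp.Action Q X' := Groth.Agent.Nori.mkAction act'
    (fun T p => by
      obtain ⟨T', c, x, y, hc, hv⟩ := hlift p
      haveI := hc.epi_over
      rw [← cancel_epi c, ← Category.assoc, comp_lift, MonObj.comp_one, ← hv, hform, inv_one, mul_one])
    (fun T g g' p => by
      obtain ⟨T', c, x, y, hc, hv⟩ := hlift p
      haveI := hc.epi_over
      rw [← cancel_epi c, ← Category.assoc, comp_lift, MonObj.comp_mul, ← hv, hform, ← Category.assoc c,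
        comp_lift, ← Category.assoc c, comp_lift, ← hv, hform, hform, mul_inv_rev, mul_assoc])
  have hw : bX.act ≫ r = snd Q X' ≫ r := by
    haveI := (hcov.whiskerLeft Q).epi_over
    rw [← cancel_epi (Q ◁ qq), whiskerLeft_snd_assoc]
    show (Q ◁ qq) ≫ act' ≫ r = _
    rw [reassoc_of% hact', hr, lift_fst_assoc, Category.assoc]
  have huniq : ∀ {T : Over (Spec (CommRingCat.of k))} (h h' : T ⟶ Q) (p : T ⟶ X'),
      lift h p ≫ act' = lift h' p ≫ act' → h = h' := by
    intro T h h' p e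
    obtain ⟨T', c, x, y, hc, hv⟩ := hlift p
    haveI := hc.epi_over
    rw [← cancel_epi c]
    have e' := congrArg (c ≫ ·) e
    simp only [comp_lift_assoc, ← hv, hform] at e'
    obtain ⟨g, hg1, hg2⟩ := horb _ _ _ _ e'
    have hg : g = 1 := AssocBun.act_cancel hcart (x := x) (by rw [AlgGrp.Action.lift_one_act]; exact hg1)
    rw [hg, MonObj.one_comp, one_mul, mul_right_inj, inv_inj] at hg2
    exact hg2.symm
  have hdesc : ∀ {T T' : Over (Spec (CommRingCat.of k))} (c : T' ⟶ T), MonoQuot.IsCov c.left →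
      ∀ p p' : T ⟶ X', (∃ h : T' ⟶ Q, lift h (c ≫ p') ≫ act' = c ≫ p) → ∃ h : T ⟶ Q, lift h p' ≫ act' = p := by
    rintro T T' c hc p p' ⟨h, hh⟩
    obtain ⟨h₀, hh₀⟩ := hc.exists_desc h fun W u v e => huniq _ _ ((u ≫ c) ≫ p') (by
      have h1 := congrArg (u ≫ ·) hh
      have h2 := congrArg (v ≫ ·) hh
      simp only [comp_lift_assoc] at h1 h2
      rw [← Category.assoc u, ← Category.assoc u c] at h1
      rw [← Category.assoc v, ← Category.assoc v c, ← e] at h2
      exact h1.trans h2.symm)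
    haveI := hc.epi_over
    exact ⟨h₀, by rw [← cancel_epi c, comp_lift_assoc, hh₀, hh]⟩
  have hex : ∀ {T : Over (Spec (CommRingCat.of k))} (p p' : T ⟶ X'), p ≫ r = p' ≫ r →
      ∃ h : T ⟶ Q, lift h p' ≫ act' = p := by
    intro T p p' e
    obtain ⟨T₁, c₁, x, y, hc₁, hv⟩ := hlift p
    refine hdesc c₁ hc₁ p p' ?_
    obtain ⟨T₂, c₂, x', y', hc₂, hv'⟩ := hlift (c₁ ≫ p')
    refine hdesc c₂ hc₂ (c₁ ≫ p) (c₁ ≫ p') ?_
    rw [← hv, ← hv']
    have e' := congrArg (fun z => c₂ ≫ c₁ ≫ z) e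
    rw [← reassoc_of% hv, ← reassoc_of% hv', hr, lift_fst_assoc, lift_fst_assoc] at e'
    refine ⟨(c₂ ≫ y)⁻¹ * ((AssocBun.div hcart x' (c₂ ≫ x) (by rw [Category.assoc]; exact e') ≫ q) * y'), ?_⟩
    rw [← hinv (AssocBun.div hcart x' (c₂ ≫ x) (by rw [Category.assoc]; exact e')) x' y', hform,
      AssocBun.div_spec, comp_lift_assoc]
    congr 2
    rw [mul_inv_rev, inv_inv, ← mul_assoc, mul_inv_cancel, one_mul]
  have hbsq : IsPullback bX.act (snd Q X') r r := IsPullback.of_isLimit' ⟨hw⟩ (PullbackCone.IsLimit.mk _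
    (fun c => lift (hex c.fst c.snd c.condition).choose c.snd) (fun c => (hex c.fst c.snd c.condition).choose_spec)
    (fun c => lift_snd _ _) fun c m e1 e2 => by
      rw [eq_lift m, e2]
      congr 1
      refine huniq _ _ c.snd ?_
      rw [(hex c.fst c.snd c.condition).choose_spec, ← e2, ← eq_lift m]
      exact e1)
  -- the map from `X`
  let ρ : X ⟶ X' := lift (𝟙 X) 1 ≫ qq
  have hρ : ∀ {T : Over (Spec (CommRingCat.of k))} (x : T ⟶ X), x ≫ ρ = lift x 1 ≫ qq := fun x => by
    simp only [ρ, ← Category.assoc, comp_lift, Category.comp_id, MonObj.comp_one]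
  have hρr : ρ ≫ r = φ := by
    simp only [ρ, Category.assoc, hr, lift_fst_assoc, Category.id_comp]
  have hrloc : NonAbH1.IsLocallyTrivialFor Scheme.fpqcPrecoverage (Over.mk r.left : Over Y.left) := by
    obtain ⟨R, hR, hs⟩ := hloc
    refine ⟨R, hR, fun S' f hf => ?_⟩
    obtain ⟨s, hs⟩ := hs f hf
    refine ⟨s ≫ ρ.left, ?_⟩
    show (s ≫ ρ.left) ≫ r.left = f
    rw [Category.assoc, ← Over.comp_left, hρr]
    exact hs
  haveI : Mono iN := Over.mono_of_mono_left iN
  have hNsq : IsPullback (a.restrict iN).act (snd N X) ρ ρ := by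
    have hiq : iN ≫ q = 1 := hker.w.trans (by rw [Hom.one_def])
    have hexN : ∀ {T : Over (Spec (CommRingCat.of k))} (x x' : T ⟶ X), x ≫ ρ = x' ≫ ρ →
        ∃ n : T ⟶ N, lift n x' ≫ (a.restrict iN).act = x := fun x x' e => by
      rw [hρ, hρ] at e
      obtain ⟨g, hg1, hg2⟩ := horb _ _ _ _ e
      rw [mul_one] at hg2
      refine ⟨hker.lift g (toUnit _) (by rw [hg2, Hom.one_def]), ?_⟩
      rw [AlgGrp.Action.lift_restrict_act, hker.lift_fst, hg1]
    refine IsPullback.of_isLimit' ⟨?_⟩ (PullbackCone.IsLimit.mk _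
      (fun c => lift (hexN c.fst c.snd c.condition).choose c.snd)
      (fun c => (hexN c.fst c.snd c.condition).choose_spec) (fun c => lift_snd _ _) fun c m e1 e2 => ?_)
    · have e := AlgGrp.Action.lift_restrict_act iN a (fst N X) (snd N X)
      rw [lift_fst_snd, Category.id_comp] at e
      rw [e, hρ, hρ, ← hinv (fst N X ≫ iN) (snd N X) 1]
      congr 2
      rw [Category.assoc, hiq, MonObj.comp_one, one_mul]
    · rw [eq_lift m, e2]
      congr 1
      rw [← cancel_mono iN]
      refine AssocBun.act_cancel hcart (x := c.snd) ?_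
      rw [← AlgGrp.Action.lift_restrict_act iN a, ← AlgGrp.Action.lift_restrict_act iN a,
        (hexN c.fst c.snd c.condition).choose_spec, ← e2, ← eq_lift m]
      exact e1
  have hρloc : NonAbH1.IsLocallyTrivialFor Scheme.fpqcPrecoverage (Over.mk ρ.left : Over X'.left) := by
    haveI : IsReduced Q.left := GrpSchLib.isReduced_of_isAlgClosed Q
    haveI : QuasiCompact G.hom := inferInstance
    haveI : Flat q.left := AntiAffLib.flat_of_surjective q
    haveI : IsAffineHom q.left := inferInstance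
    have sqW := FinHom.isPullback_whiskerLeft X q
    haveI : Flat (X ◁ q).left := MorphismProperty.of_isPullback (P := @Flat) sqW.flip ‹_›
    haveI : Surjective (X ◁ q).left := MorphismProperty.of_isPullback (P := @Surjective) sqW.flip ‹_›
    haveI : IsAffineHom (X ◁ q).left := MorphismProperty.of_isPullback (P := @IsAffineHom) sqW.flip ‹_›
    refine ⟨_, Scheme.Hom.singleton_mem_fpqcPrecoverage ((X ◁ q).left ≫ qq.left), ?_⟩
    rintro S' f ⟨⟩
    let s : X ⊗ G ⟶ X := lift (snd X G)⁻¹ (fst X G) ≫ a.act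
    have es : s ≫ ρ = (X ◁ q) ≫ qq := by
      rw [hρ, ← hinv (snd X G) s 1]
      simp only [s]
      rw [← AlgGrp.Action.lift_mul_act, mul_inv_cancel, AlgGrp.Action.lift_one_act, mul_one]
      congr 1
    exact ⟨s.left, congrArg Over.Hom.left es⟩
  have h := isLocallyTrivial_zariski_comp r.left ρ.left (hQ X' Y bX r hbsq hrloc)
    (hN X X' (a.restrict iN) ρ hNsq hρloc)
  have e : ρ.left ≫ r.left = φ.left := congrArg Over.Hom.left hρr
  rwa [e] at h

end Groth.Agent.SpecialExt
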